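import Groth.Agent.HdRVan.Core
import Groth.Agent.S5019
import Groth.Agent.ExtPowSt.Stalk
import Groth.Agent.Omega.DiagUniv
import Groth.Agent.Omega.LocalStructure
import Groth.Agent.Omega.Chart
import Groth.Agent.VBLib.Basic
import Groth.Agent.Unram24.ExtPowPull
import Groth.Prelude.Def_DeRham2

/-!
# Vanishing of algebraic de Rham cohomology of smooth schemes
-/

set_option autoImplicit false
set_option backward.isDefEq.respectTransparency.types false
set_option linter.style.haveILetI false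

universe u

open CategoryTheory CategoryTheory.Limits AlgebraicGeometry Opposite TopologicalSpace

namespace Groth.Agent.HdRVan

open Groth.Agent.PullStalk.Sky Groth.Agent.LFFrame

variable {k : Type u} [Field k] {X : Scheme.{u}} {f : X ⟶ Spec (CommRingCat.of k)} [QuasiSeparated f]

theorem fibreDimAt_le (n : ℕ) (hn : topologicalKrullDim X ≤ n) (x : X) :
    FlatMor.fibreDimAt f x ≤ (n : WithBot ℕ∞) := by
  refine (iInf_le _ (⟨⊤, trivial⟩ : {U : Opens _ // f.asFiber x ∈ U})).trans ?_
  refine le_trans ?_ hn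
  exact Topology.IsInducing.topologicalKrullDim_le
    (((f.fiberι (f x)).isEmbedding.isInducing).comp Topology.IsInducing.subtypeVal)

theorem isZero_term [Smooth f] (n : ℕ) (hn : topologicalKrullDim X ≤ n) (D : DeRhamSh.OmegaCx f) (p : ℕ)
    (hp : n < p) (U : X.Opens) (s : Γ(D.term p, U)) : s = 0 := by
  haveI := Unram24.ExtPowPull.isQuasicoherent_omega f
  refine TopCat.Presheaf.section_ext (⟨(D.term p).presheaf, (D.term p).isSheaf⟩ : TopCat.Sheaf Ab X) U s 0
    fun x hx => ?_
  obtain ⟨V, m, hxV, ⟨φ⟩, hm⟩ := Groth.Agent.S5019.result f (Omega.sheaf f) (OmegaSh.dOmega f)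
    (Omega.DiagUniv.isUniversal_dOmega f) x
  have hmn : m ≤ n := by
    have := fibreDimAt_le (f := f) n hn x
    rw [hm] at this
    exact_mod_cast this
  obtain ⟨e, he⟩ := VBLib.exists_isFrame_of_iso φ
  let b : Module.Basis (Fin m) (X.presheaf.stalk x) ((Omega.sheaf f).presheaf.stalk x) :=
    Module.Basis.ofEquivFun (LinearEquiv.ofBijective _ (he.stalkComb_bijective x hxV)).symm
  let bp := b.exteriorPower p
  haveI : IsEmpty (Set.powersetCard (Fin m) p) := ⟨fun S => by
    have h1 := Finset.card_le_univ S.1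
    rw [S.2, Fintype.card_fin] at h1
    omega⟩
  haveI : Subsingleton ↥(⋀[X.presheaf.stalk x]^p ((Omega.sheaf f).presheaf.stalk x)) :=
    bp.repr.toEquiv.subsingleton
  haveI : Subsingleton ((D.term p).presheaf.stalk x) :=
    (ExtPowSt.stalkEquiv (i := p) (E := Omega.sheaf f) (L := D.term p) ⟨D.loc p, D.loc_res p⟩ x).toEquiv.subsingleton
  exact Subsingleton.elim _ _

theorem isQCoh_term (D : DeRhamSh.OmegaCx f) (p : ℕ) : Coh.IsQCoh (D.term p) := by
  haveI := Unram24.ExtPowPull.isQuasicoherent_omega f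
  exact ExtPowSt.isQuasicoherent (i := p) (E := Omega.sheaf f) (L := D.term p) ⟨D.loc p, D.loc_res p⟩

/-- Vanishing above `dim + cd`. -/
theorem subsingleton_HdR [Smooth f] (n : ℕ) (hn : topologicalKrullDim X ≤ n) (r : ℕ)
    (hcd : ∀ (F : X.Modules), Coh.IsQCoh F → ∀ q : ℕ, r ≤ q → Subsingleton (Coh.HH X F q))
    (D : DeRhamSh.OmegaCx f)
    [HasDerivedCategory.{u} (Sheaf (Opens.grothendieckTopology ↥X) AddCommGrpCat.{u})]
    (i : ℤ) (hi : (n : ℤ) + r ≤ i) : Subsingleton (DeRhamSh.HdR D i) := by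
  suffices hz : ∀ x : DeRhamSh.HdR D i, x = 0 from ⟨fun a b => (hz a).trans (hz b).symm⟩
  have hzero : ∀ p : ℕ, n < p → IsZero (D.K.X p) := fun p hp => by
    refine IsZero.of_iso ?_ (D.iso p)
    rw [IsZero.iff_id_eq_zero]
    refine Sheaf.hom_ext (NatTrans.ext (funext fun U => AddCommGrpCat.hom_ext (AddMonoidHom.ext fun s => ?_)))
    exact isZero_term n hn D p hp U.unop s
  have hv : ∀ q : ℤ, q < 0 ∨ (n : ℤ) < q → IsZero (D.KZ.X q) := by
    intro q hq
    rcases hq with hq | hq
    · exact D.K.isZero_extend_X ComplexShape.embeddingUpNat q fun p hp => by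
        simp only [ComplexShape.embeddingUpNat_f] at hp
        omega
    · obtain ⟨p, rfl⟩ : ∃ p : ℕ, q = p := ⟨q.toNat, by omega⟩
      exact (hzero p (by omega)).of_iso (D.K.extendXIso ComplexShape.embeddingUpNat (by simp))
  refine fun x => hom_eq_zero_of_terms _ D.KZ 0 (n : ℤ) i hv (fun q m hqm => ?_) x
  by_cases hq : q < 0 ∨ (n : ℤ) < q
  · refine subsingleton_of_forall_eq 0 fun e => ?_
    have h0 := (hv q hq).eq_of_src (𝟙 _) 0
    rw [← Abelian.Ext.comp_mk₀_id e, h0, Abelian.Ext.mk₀_zero, Abelian.Ext.comp_zero]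
  · rw [not_or] at hq
    obtain ⟨p, rfl⟩ : ∃ p : ℕ, q = p := ⟨q.toNat, by omega⟩
    haveI : Subsingleton (Coh.HH X (D.term p) m) := hcd _ (isQCoh_term D p) m (by omega)
    haveI hU : Subsingleton (Abelian.Ext (CohCx.freeSheaf (Opens.grothendieckTopology X) (⊤ : X.Opens))
        (Coh.toAb (D.term p)) m) :=
      (CohTop.Basic.HEquivHUTop (X := X.toPresheafedSpace.carrier) (Coh.toAb (D.term p)) m).symm.injective.subsingleton
    let ι : D.KZ.X (p : ℤ) ≅ Coh.toAb (D.term p) :=
      D.K.extendXIso ComplexShape.embeddingUpNat (by simp) ≪≫ D.iso p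
    refine subsingleton_of_forall_eq 0 fun e => ?_
    have h1 : e.comp (Abelian.Ext.mk₀ ι.hom) (add_zero m) = 0 := Subsingleton.elim _ _
    have h2 := congrArg (fun z => Abelian.Ext.comp z (Abelian.Ext.mk₀ ι.inv) (add_zero m)) h1
    simpa using h2

end Groth.Agent.HdRVan
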