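import Groth.Agent.HdRVan.Classes
import Groth.Agent.HdRVan.Terms
import Groth.Agent.Omega.SpecDer
import Groth.Agent.SiteCoh.Free
import Groth.Agent.DeRham.Basic
import Groth.Agent.S0007

/-!
# De Rham cohomology of an affine scheme
-/

set_option autoImplicit false
set_option backward.isDefEq.respectTransparency.types false
set_option linter.style.haveILetI false

universe u

open CategoryTheory CategoryTheory.Limits AlgebraicGeometry Opposite TopologicalSpace exteriorPower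

noncomputable section

namespace Groth.Agent.HdRVan.Affine

open Groth.Agent.Omega

section Algebra

variable {A B M N : Type u} [CommRing A] [CommRing B] [AddCommGroup M] [Module A M] [AddCommGroup N] [Module B N]

/-- Exterior powers transported along semilinear bijections. -/
theorem exists_extEquiv (g : A ≃+* B) (l : M ≃+ N) (hl : ∀ a m, l (a • m) = g a • l m) (p : ℕ) :
    ∃ μ : ↥(⋀[A]^p M) ≃+ ↥(⋀[B]^p N),
      ∀ (a : A) (m : Fin p → M), μ (a • ιMulti A p m) = g a • ιMulti B p (fun i => l (m i)) := by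
  letI : Algebra A B := g.toRingHom.toAlgebra
  letI : Algebra B A := g.symm.toRingHom.toAlgebra
  letI : Module A N := Module.compHom N g.toRingHom
  letI : Module B M := Module.compHom M g.symm.toRingHom
  haveI : IsScalarTower A B N := IsScalarTower.of_algebraMap_smul fun _ _ => rfl
  haveI : IsScalarTower B A M := IsScalarTower.of_algebraMap_smul fun _ _ => rfl
  let f₁ : M →ₗ[A] N := { toFun := l, map_add' := map_add l, map_smul' := hl }
  let f₂ : N →ₗ[B] M :=
    { toFun := l.symm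
      map_add' := map_add l.symm
      map_smul' := fun b n => l.injective (by
        show l (l.symm (b • n)) = l (g.symm b • l.symm n)
        rw [hl, l.apply_symm_apply, l.apply_symm_apply, g.apply_symm_apply]) }
  let F := DeRham.Basic.mapAlg (B := B) p f₁
  let G := DeRham.Basic.mapAlg (B := A) p f₂
  have hF : ∀ (a : A) m, F (a • ιMulti A p m) = g a • ιMulti B p (fun i => l (m i)) := fun a m => by
    rw [LinearMap.map_smul, DeRham.Basic.mapAlg_ιMulti]
    exact (algebraMap_smul B a (ιMulti B p fun i => l (m i))).symm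
  have hG : ∀ (b : B) n, G (b • ιMulti B p n) = g.symm b • ιMulti A p (fun i => l.symm (n i)) := fun b n => by
    rw [LinearMap.map_smul, DeRham.Basic.mapAlg_ιMulti]
    exact (algebraMap_smul A b (ιMulti A p fun i => l.symm (n i))).symm
  have h₁ : ∀ x, G (F x) = x := fun x => by
    have hx : x ∈ Submodule.span A (Set.range (ιMulti A p (M := M))) := by
      rw [ιMulti_span A p M]; trivial
    obtain ⟨c, rfl⟩ := Finsupp.mem_span_range_iff_exists_finsupp.1 hx
    simp only [Finsupp.sum, map_sum]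
    refine Finset.sum_congr rfl fun m _ => ?_
    rw [hF, hG, g.symm_apply_apply]
    exact congrArg _ (congrArg _ (funext fun i => l.symm_apply_apply _))
  have h₂ : ∀ x, F (G x) = x := fun x => by
    have hx : x ∈ Submodule.span B (Set.range (ιMulti B p (M := N))) := by
      rw [ιMulti_span B p N]; trivial
    obtain ⟨c, rfl⟩ := Finsupp.mem_span_range_iff_exists_finsupp.1 hx
    simp only [Finsupp.sum, map_sum]
    refine Finset.sum_congr rfl fun m _ => ?_
    rw [hG, hF, g.apply_symm_apply]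
    exact congrArg _ (congrArg _ (funext fun i => l.apply_symm_apply _))
  exact ⟨{ toFun := F, invFun := G, left_inv := h₁, right_inv := h₂, map_add' := map_add F }, hF⟩

end Algebra

variable {R A : Type u} [CommRing R] [CommRing A] [Algebra R A]

set_option maxHeartbeats 800000 in
/-- Sections of the de Rham complex on the whole affine scheme, through exterior powers of differentials. -/
theorem exists_sectEquiv₀ (D : DeRhamSh.OmegaCx (SpecDer.π R A)) :
    ∃ e : ∀ p : ℕ, ↥(⋀[A]^p (Ω[A⁄R])) ≃+ (D.K.X p).obj.obj (op (⊤ : (Spec (CommRingCat.of A)).Opens)),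
      ∀ p b₀ (b : Fin p → A), (D.K.d p (p + 1)).hom.app (op ⊤) (e p (DeRham.gen (KaehlerDifferential.D R A) p b₀ b)) =
        e (p + 1) (ιMulti A (p + 1) (Fin.cons (KaehlerDifferential.D R A b₀) fun i => KaehlerDifferential.D R A (b i))) := by
  obtain ⟨d₀, hd₀, hd₀'⟩ := SpecDer.exists_isUniversal R A
  let Ξ := Basic.uniqueIso hd₀ (DiagUniv.isUniversal_dOmega (SpecDer.π R A))
  let U : (Spec (CommRingCat.of A)).affineOpens := ⟨⊤, isAffineOpen_top _⟩
  let g : A ≃+* Γ(Spec (CommRingCat.of A), ⊤) := RingEquiv.ofBijective _ (SpecDer.γ_bijective A)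
  have hb : Function.Bijective (fun m : Ω[A⁄R] => Ξ.hom.app ⊤ (SpecDer.sect R A m)) :=
    Function.Bijective.comp
      (ConcreteCategory.bijective_of_isIso ((Scheme.Modules.toPresheaf _).map Ξ.hom |>.app (op ⊤)))
      (SpecDer.sect_bijective R A)
  let l : Ω[A⁄R] ≃+ Γ(Omega.sheaf (SpecDer.π R A), ⊤) :=
    AddEquiv.ofBijective (AddMonoidHom.mk' (fun m => Ξ.hom.app ⊤ (SpecDer.sect R A m))
      (fun a b => by rw [map_add, map_add])) hb
  have hl : ∀ a m, l (a • m) = g a • l m := fun a m => by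
    show Ξ.hom.app ⊤ (SpecDer.sect R A (a • m)) = SpecDer.γ A a • Ξ.hom.app ⊤ (SpecDer.sect R A m)
    rw [LinearMap.map_smul, SpecDer.smul_eq, Scheme.Modules.Hom.app_smul]
  have hlD : ∀ b, l (KaehlerDifferential.D R A b) = (OmegaSh.dOmega (SpecDer.π R A)).app ⊤ (g b) := fun b => by
    show Ξ.hom.app ⊤ (SpecDer.sect R A (KaehlerDifferential.D R A b)) = _
    rw [← hd₀', Basic.uniqueIso_hom_app]
    rfl
  choose μ hμ using fun p => exists_extEquiv g l hl p
  let ν : ∀ p, Γ(D.term p, (⊤ : (Spec (CommRingCat.of A)).Opens)) ≃+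
      (D.K.X p).obj.obj (op (⊤ : (Spec (CommRingCat.of A)).Opens)) := fun p =>
    ((sheafToPresheaf _ _ ⋙ (evaluation _ _).obj (op (⊤ : (Spec (CommRingCat.of A)).Opens))).mapIso
      (D.iso p).symm).addCommGroupIsoToAddEquiv
  refine ⟨fun p => ((μ p).trans (D.loc p U).symm.toAddEquiv).trans (ν p), fun p b₀ b => ?_⟩
  show (D.K.d p (p + 1)).hom.app (op ⊤) ((D.iso p).inv.hom.app (op ⊤) ((D.loc p U).symm (μ p (b₀ • ιMulti A p _)))) =
    (D.iso (p + 1)).inv.hom.app (op ⊤) ((D.loc (p + 1) U).symm (μ (p + 1) (ιMulti A (p + 1) _)))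
  rw [← one_smul A (ιMulti A (p + 1) _), hμ, hμ, map_one, one_smul]
  have e1 : (fun i => l (KaehlerDifferential.D R A (b i))) =
      fun i => (OmegaSh.dOmega (SpecDer.π R A)).app U.1 (g (b i)) := funext fun i => hlD (b i)
  have e2 : (fun i => l ((Fin.cons (KaehlerDifferential.D R A b₀)
      (fun j => KaehlerDifferential.D R A (b j)) : Fin (p + 1) → Ω[A⁄R]) i)) =
      Fin.cons ((OmegaSh.dOmega (SpecDer.π R A)).app U.1 (g b₀))
        (fun i => (OmegaSh.dOmega (SpecDer.π R A)).app U.1 (g (b i))) := funext fun i => by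
    refine Fin.cases ?_ ?_ i
    · simp only [Fin.cons_zero]; exact hlD b₀
    · intro j; simp only [Fin.cons_succ]; exact hlD (b j)
  rw [e1, e2]
  exact D.rule p U (g b₀) (fun i => g (b i))

/-- Sections of the de Rham complex on the whole affine scheme. -/
theorem exists_sectEquiv (D : DeRhamSh.OmegaCx (SpecDer.π R A))
    {d : ∀ p : ℕ, ↥(⋀[A]^p (Ω[A⁄R])) →ₗ[R] ↥(⋀[A]^(p + 1) (Ω[A⁄R]))}
    (hd : DeRham.IsDiff (KaehlerDifferential.D R A) d) :
    ∃ e : ∀ p : ℕ, ↥(⋀[A]^p (Ω[A⁄R])) ≃+ (D.K.X p).obj.obj (op (⊤ : (Spec (CommRingCat.of A)).Opens)),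
      ∀ p x, (D.K.d p (p + 1)).hom.app (op ⊤) (e p x) = e (p + 1) (d p x) := by
  obtain ⟨e, he⟩ := exists_sectEquiv₀ D
  refine ⟨e, fun p x => DeRham.Basic.gen_induction (KaehlerDifferential.D R A)
    (KaehlerDifferential.span_range_derivation R A)
    (P := fun x => (D.K.d p (p + 1)).hom.app (op ⊤) (e p x) = e (p + 1) (d p x)) ?_ ?_ ?_ x⟩
  · simp
  · intro y z hy hz
    simp only [map_add]
    exact congrArg₂ (· + ·) hy hz
  · intro b₀ b
    rw [hd.1 p b₀ b]
    exact he p b₀ b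

/-- The de Rham differential of forms exists as soon as a de Rham complex of sheaves does. -/
theorem exists_isDiff (D : DeRhamSh.OmegaCx (SpecDer.π R A)) :
    ∃ d : ∀ p : ℕ, ↥(⋀[A]^p (Ω[A⁄R])) →ₗ[R] ↥(⋀[A]^(p + 1) (Ω[A⁄R])),
      DeRham.IsDiff (KaehlerDifferential.D R A) d := by
  obtain ⟨e, he⟩ := exists_sectEquiv₀ D
  let δ : ∀ p : ℕ, ↥(⋀[A]^p (Ω[A⁄R])) →+ ↥(⋀[A]^(p + 1) (Ω[A⁄R])) := fun p =>
    ((e (p + 1)).symm.toAddMonoidHom.comp ((D.K.d p (p + 1)).hom.app (op ⊤)).hom).comp (e p).toAddMonoidHom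
  have hδ : ∀ p b₀ (b : Fin p → A), δ p (DeRham.gen (KaehlerDifferential.D R A) p b₀ b) =
      ιMulti A (p + 1) (Fin.cons (KaehlerDifferential.D R A b₀) fun i => KaehlerDifferential.D R A (b i)) :=
    fun p b₀ b => (congrArg (e (p + 1)).symm (he p b₀ b)).trans ((e (p + 1)).symm_apply_apply _)
  refine ⟨fun p => { toFun := δ p, map_add' := map_add (δ p), map_smul' := fun r x => ?_ },
    DeRham.Basic.isDiff_of_isRule (KaehlerDifferential.span_range_derivation R A) fun p b₀ b => hδ p b₀ b⟩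
  show δ p (r • x) = r • δ p x
  refine DeRham.Basic.gen_induction (KaehlerDifferential.D R A) (KaehlerDifferential.span_range_derivation R A)
    (P := fun x => δ p (r • x) = r • δ p x) ?_ ?_ ?_ x
  · simp
  · intro y z hy hz
    rw [smul_add, map_add, map_add, smul_add, hy, hz]
  · intro b₀ b
    have h : r • DeRham.gen (KaehlerDifferential.D R A) p b₀ b = DeRham.gen (KaehlerDifferential.D R A) p (r • b₀) b :=
      (smul_assoc r b₀ _).symm
    rw [h, hδ, hδ, Derivation.map_smul, ← algebraMap_smul A r (KaehlerDifferential.D R A b₀),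
      ← algebraMap_smul A r (ιMulti A (p + 1) _)]
    exact (ιMulti A (p + 1)).toMultilinearMap.cons_smul (M := fun _ => Ω[A⁄R]) _ _ _

theorem isQCoh_term' (D : DeRhamSh.OmegaCx (SpecDer.π R A)) (p : ℕ) : Coh.IsQCoh (D.term p) := by
  haveI := Unram24.ExtPowPull.isQuasicoherent_omega (SpecDer.π R A)
  exact ExtPowSt.isQuasicoherent (i := p) (E := Omega.sheaf _) (L := D.term p) ⟨D.loc p, D.loc_res p⟩

set_option maxHeartbeats 800000 in
/-- Hypercohomology of the de Rham complex of an affine scheme through global forms. -/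
theorem exists_cocyclesHom (D : DeRhamSh.OmegaCx (SpecDer.π R A))
    [HasDerivedCategory.{u} (Sheaf (Opens.grothendieckTopology ↥(Spec (CommRingCat.of A))) AddCommGrpCat.{u})]
    {d : ∀ p : ℕ, ↥(⋀[A]^p (Ω[A⁄R])) →ₗ[R] ↥(⋀[A]^(p + 1) (Ω[A⁄R]))}
    (hd : DeRham.IsDiff (KaehlerDifferential.D R A) d) (n : ℕ) :
    ∃ Ψ : DeRham.cocycles d n →+ DeRhamSh.HdR D (n : ℤ), Function.Surjective Ψ ∧
      ∀ z, Ψ z = 0 ↔ (z : ↥(⋀[A]^n (Ω[A⁄R]))) ∈ DeRham.coboundaries d n := by
  let X := Spec (CommRingCat.of A)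
  let J := Opens.grothendieckTopology X
  obtain ⟨e, he⟩ := exists_sectEquiv D hd
  let ι : ∀ p : ℕ, D.KZ.X (p : ℤ) ≅ D.K.X p := fun p => D.K.extendXIso ComplexShape.embeddingUpNat (by simp)
  have hneg : ∀ i : ℤ, i < 0 → IsZero (D.KZ.X i) := fun i hi =>
    D.K.isZero_extend_X ComplexShape.embeddingUpNat i fun p hp => by
      simp only [ComplexShape.embeddingUpNat_f] at hp
      omega
  obtain ⟨Φ, hΦ, hΦ'⟩ := exists_classHom (CohCx.freeSheaf J (⊤ : X.Opens)) D.KZ 0 hneg (fun i q => by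
    by_cases hi : i < 0
    · refine subsingleton_of_forall_eq 0 fun x => ?_
      rw [← Abelian.Ext.comp_mk₀_id x, (hneg i hi).eq_of_src (𝟙 _) 0, Abelian.Ext.mk₀_zero, Abelian.Ext.comp_zero]
    · obtain ⟨p, rfl⟩ : ∃ p : ℕ, i = p := ⟨i.toNat, by omega⟩
      haveI := isQCoh_term' D p
      haveI : Subsingleton (Coh.HH X (D.term p) (q + 1)) := S0007.result X (D.term p) (q + 1) (by omega)
      haveI : Subsingleton (Abelian.Ext (CohCx.freeSheaf J (⊤ : X.Opens)) (Coh.toAb (D.term p)) (q + 1)) :=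
        (CohTop.Basic.HEquivHUTop (X := X.toPresheafedSpace.carrier) (Coh.toAb (D.term p)) (q + 1)).symm.injective.subsingleton
      refine subsingleton_of_forall_eq 0 fun x => ?_
      have h1 : x.comp (Abelian.Ext.mk₀ (ι p ≪≫ D.iso p).hom) (add_zero (q + 1)) = 0 := Subsingleton.elim _ _
      have h2 := congrArg (fun z => Abelian.Ext.comp z (Abelian.Ext.mk₀ (ι p ≪≫ D.iso p).inv) (add_zero (q + 1))) h1
      simpa using h2) (n : ℤ) ((n + 1 : ℕ) : ℤ) ((n : ℤ) - 1) (by push_cast; rfl) (by omega)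
  -- a form as a morphism out of the free sheaf
  let σ : ∀ p : ℕ, ↥(⋀[A]^p (Ω[A⁄R])) ≃+ (CohCx.freeSheaf J (⊤ : X.Opens) ⟶ D.KZ.X (p : ℤ)) := fun p =>
    (e p).trans ((SiteCoh.Free.sectionEquiv J (⊤ : X.Opens) (D.K.X p)).symm.trans
      (AddEquiv.mk' (Iso.homToEquiv (ι p).symm) fun a b => Preadditive.add_comp _ _ _ a b (ι p).inv))
  have hσ : ∀ p x, σ p x ≫ D.KZ.d (p : ℤ) ((p + 1 : ℕ) : ℤ) = σ (p + 1) (d p x) := fun p x => by
    show (_ ≫ (ι p).inv) ≫ _ = _ ≫ (ι (p + 1)).inv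
    rw [D.K.extend_d_eq ComplexShape.embeddingUpNat (i := p) (j := p + 1) (by simp) (by simp)]
    simp only [Category.assoc, ι, Iso.inv_hom_id_assoc]
    refine ((Category.assoc _ _ _).symm.trans (congrArg (· ≫ _) ?_))
    apply (SiteCoh.Free.sectionEquiv J (⊤ : X.Opens) (D.K.X (p + 1))).injective
    rw [SiteCoh.Free.sectionEquiv_comp]
    exact (congrArg _ ((SiteCoh.Free.sectionEquiv J (⊤ : X.Opens) (D.K.X p)).apply_symm_apply _)).trans
      ((he p x).trans ((SiteCoh.Free.sectionEquiv J (⊤ : X.Opens) (D.K.X (p + 1))).apply_symm_apply _).symm)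
  let Ψ : DeRham.cocycles d n →+ DeRhamSh.HdR D (n : ℤ) :=
    Φ.comp (AddMonoidHom.mk' (fun z => ⟨σ n z.1, by
      show σ n z.1 ≫ _ = 0
      rw [hσ, show d n z.1 = 0 from z.2, map_zero]⟩) fun y z => Subtype.ext (map_add (σ n) y.1 z.1))
  refine ⟨Ψ, fun y => ?_, fun z => (hΦ' _).trans ?_⟩
  · obtain ⟨⟨f, hf⟩, rfl⟩ := hΦ y
    obtain ⟨x, rfl⟩ := (σ n).surjective f
    refine ⟨⟨x, ?_⟩, rfl⟩
    show d n x = 0
    apply (σ (n + 1)).injective
    rw [← hσ, map_zero]
    exact hf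
  · cases n with
    | zero =>
      constructor
      · rintro ⟨g, hg⟩
        rw [(hneg _ (by omega)).eq_of_tgt g 0, zero_comp] at hg
        show z.1 = (0 : ↥(⋀[A]^0 (Ω[A⁄R])))
        exact (σ 0).injective (hg.symm.trans (map_zero _).symm)
      · intro hz
        exact ⟨0, zero_comp.trans ((map_zero (σ 0)).symm.trans (congrArg (σ 0) (show (0 : ↥(⋀[A]^0 (Ω[A⁄R]))) = z.1 from ((Submodule.mem_bot R).1 hz).symm)))⟩
    | succ m =>
      have key : ∀ q : ℤ, q = (m : ℤ) → ((∃ g : CohCx.freeSheaf J (⊤ : X.Opens) ⟶ D.KZ.X q,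
          g ≫ D.KZ.d q ((m + 1 : ℕ) : ℤ) = σ (m + 1) z.1) ↔ z.1 ∈ LinearMap.range (d m)) := by
        rintro q rfl
        constructor
        · rintro ⟨g, hg⟩
          obtain ⟨x, rfl⟩ := (σ m).surjective g
          exact ⟨x, (σ (m + 1)).injective ((hσ m x).symm.trans hg)⟩
        · rintro ⟨x, hx⟩
          exact ⟨σ m x, (hσ m x).trans (congrArg _ hx)⟩
      exact key _ (by push_cast; ring)

/-- The comparison with the homology of the complex of forms. -/
theorem nonempty_addEquiv (D : DeRhamSh.OmegaCx (SpecDer.π R A))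
    [HasDerivedCategory.{u} (Sheaf (Opens.grothendieckTopology ↥(Spec (CommRingCat.of A))) AddCommGrpCat.{u})]
    {d : ∀ p : ℕ, ↥(⋀[A]^p (Ω[A⁄R])) →ₗ[R] ↥(⋀[A]^(p + 1) (Ω[A⁄R]))}
    (hd : DeRham.IsDiff (KaehlerDifferential.D R A) d) (n : ℕ) :
    Nonempty (DeRhamSh.HdR D (n : ℤ) ≃+ ↑(DeRham.H hd n)) := by
  obtain ⟨Ψ, hΨ, hΨ'⟩ := exists_cocyclesHom D hd n
  let S := (DeRham.cx hd).sc n
  have hg : ∀ x : ↥(⋀[A]^n (Ω[A⁄R])), S.g x = 0 ↔ x ∈ DeRham.cocycles d n := fun x => by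
    have e : (ComplexShape.up ℕ).next n = n + 1 := CochainComplex.next ℕ n
    show ((DeRham.cx hd).d n ((ComplexShape.up ℕ).next n)) x = 0 ↔ _
    rw [e, show (DeRham.cx hd).d n (n + 1) = ModuleCat.ofHom (d n) from
        CochainComplex.of_d (fun p => ModuleCat.of R ↥(⋀[A]^p (Ω[A⁄R]))) (fun p => ModuleCat.ofHom (d p)) n]
    exact Iff.rfl
  have hf : ∀ x : ↥(⋀[A]^n (Ω[A⁄R])), x ∈ LinearMap.range S.f.hom ↔ x ∈ DeRham.coboundaries d n := fun x => by
    show x ∈ LinearMap.range ((DeRham.cx hd).d ((ComplexShape.up ℕ).prev n) n).hom ↔ _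
    cases n with
    | zero =>
      rw [show (ComplexShape.up ℕ).prev 0 = 0 from CochainComplex.prev_nat_zero,
        (DeRham.cx hd).shape 0 0 (by simp)]
      simp only [ModuleCat.hom_zero, LinearMap.range_zero]
      exact Iff.rfl
    | succ m =>
      rw [show (ComplexShape.up ℕ).prev (m + 1) = m from CochainComplex.prev_nat_succ m,
        show (DeRham.cx hd).d m (m + 1) = ModuleCat.ofHom (d m) from
        CochainComplex.of_d (fun p => ModuleCat.of R ↥(⋀[A]^p (Ω[A⁄R]))) (fun p => ModuleCat.ofHom (d p)) m]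
      exact Iff.rfl
  let K₀ := LinearMap.ker S.g.hom
  let π : K₀ →+ ↑(DeRham.H hd n) :=
    (S.moduleCatHomologyIso.toLinearEquiv.symm.toAddEquiv.toAddMonoidHom).comp
      (Submodule.mkQ (LinearMap.range S.moduleCatToCycles)).toAddMonoidHom
  have hπ : Function.Surjective π :=
    S.moduleCatHomologyIso.toLinearEquiv.symm.surjective.comp (Submodule.mkQ_surjective _)
  have hπ' : ∀ z : K₀, π z = 0 ↔ z.1 ∈ DeRham.coboundaries d n := fun z => by
    show S.moduleCatHomologyIso.toLinearEquiv.symm (Submodule.Quotient.mk z) = 0 ↔ _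
    refine (LinearEquiv.map_eq_zero_iff _).trans
      ((Submodule.Quotient.mk_eq_zero (LinearMap.range S.moduleCatToCycles)).trans ?_)
    refine Iff.trans ?_ (hf z.1)
    exact ⟨fun ⟨w, hw⟩ => ⟨w, congrArg Subtype.val hw⟩, fun ⟨w, hw⟩ => ⟨w, Subtype.ext hw⟩⟩
  let c : K₀ →+ DeRham.cocycles d n :=
    AddMonoidHom.mk' (fun z => ⟨z.1, (hg z.1).1 z.2⟩) (fun _ _ => rfl)
  let c' := Ψ.comp c
  have hc : Function.Surjective c' := hΨ.comp fun z => ⟨⟨z.1, (hg z.1).2 z.2⟩, rfl⟩
  have hk : ∀ z, c' z = 0 ↔ π z = 0 := fun z => (hΨ' _).trans (hπ' z).symm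
  exact ⟨(QuotientAddGroup.quotientKerEquivOfSurjective c' hc).symm.trans
    ((QuotientAddGroup.quotientAddEquivOfEq (AddSubgroup.ext fun z => hk z)).trans
      (QuotientAddGroup.quotientKerEquivOfSurjective π hπ))⟩

end Groth.Agent.HdRVan.Affine

end
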