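import Groth.Agent.HyperCech.Main
import Mathlib.Algebra.Homology.HomotopyCategory.HomComplexSingle

/-!
# Hypercohomology classes of a bounded below complex with acyclic terms
-/

set_option autoImplicit false
set_option backward.isDefEq.respectTransparency.types false
set_option linter.style.haveILetI false

universe w v u

open CategoryTheory CategoryTheory.Limits CochainComplex.HomComplex CategoryTheory.Abelian

namespace Groth.Agent.HdRVan

open Groth.Agent.HyperCech

variable {A : Type u} [Category.{v} A] [Abelian A] [HasExt.{v} A] [EnoughInjectives A] [HasDerivedCategory.{w} A]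

/-- Morphisms killed by the differential classify hypercohomology when the terms are acyclic. -/
theorem exists_classHom (T : A) (K : CochainComplex A ℤ) (a : ℤ) (ha : ∀ i, i < a → IsZero (K.X i))
    (h : ∀ i (q : ℕ), Subsingleton (Ext T (K.X i) (q + 1))) (n n' n'' : ℤ) (hn' : n + 1 = n') (hn'' : n'' + 1 = n) :
    ∃ Φ : AddMonoidHom.ker (Preadditive.rightComp T (K.d n n')) →+
        ((DerivedCategory.singleFunctor A 0).obj T ⟶ (DerivedCategory.Q.obj K)⟦n⟧),
      Function.Surjective Φ ∧ ∀ z, Φ z = 0 ↔ ∃ g : T ⟶ K.X n'', g ≫ K.d n'' n = z.1 := by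
  obtain ⟨I, φ, hφ, hI, hinj, haI⟩ := Main.exists_resolution K a ha
  have hS : ∀ p : ℤ, p ≠ 0 → IsZero ((Main.S T).X p) := fun p hp =>
    HomologicalComplex.isZero_single_obj_X (ComplexShape.up ℤ) 0 T p hp
  obtain ⟨e⟩ := Compare.nonempty_classEquiv (Main.S T) 0 (fun p hp => hS p (by omega)) φ a ha haI
    (fun p i q => by
      by_cases hp : p = 0
      · subst hp
        let ι : (Main.S T).X 0 ≅ T := HomologicalComplex.singleObjXSelf (ComplexShape.up ℤ) 0 T
        refine subsingleton_of_forall_eq 0 fun x => ?_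
        have h1 : (Ext.mk₀ ι.inv).comp x (zero_add (q + 1)) = 0 := (h i q).elim _ _
        have h2 := congrArg (fun z => (Ext.mk₀ ι.hom).comp z (zero_add (q + 1))) h1
        simpa using h2
      · refine subsingleton_of_forall_eq 0 fun x => ?_
        rw [← Ext.mk₀_id_comp x, (hS p hp).eq_of_src (𝟙 _) 0, Ext.mk₀_zero, Ext.zero_comp])
    (fun p i q => by
      have := hinj i
      exact subsingleton_of_forall_eq 0 fun x => Ext.eq_zero_of_injective x) n
  let c : AddMonoidHom.ker (Preadditive.rightComp T (K.d n n')) →+ CohomologyClass (Main.S T) K n :=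
    AddMonoidHom.mk' (fun z => CohomologyClass.mk (Cocycle.fromSingleMk z.1 (zero_add n) n' hn' z.2))
      (fun y z => by
        rw [← CohomologyClass.mk_add, ← Cocycle.fromSingleMk_add _ _ (zero_add n) n' hn' y.2 z.2]
        rfl)
  let G := (AddEquiv.ofBijective _ (Main.hdu_bijective φ n T))
  refine ⟨(G.toAddMonoidHom.comp e.toAddMonoidHom).comp c, fun y => ?_, fun z => ?_⟩
  · obtain ⟨x, hx⟩ := (G.surjective.comp e.surjective) y
    obtain ⟨α, rfl⟩ := x.mk_surjective
    obtain ⟨f, hf, rfl⟩ := Cocycle.fromSingleMk_surjective α n (zero_add n) n' hn'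
    exact ⟨⟨f, hf⟩, hx⟩
  · show G (e (c z)) = 0 ↔ _
    rw [AddEquiv.map_eq_zero_iff, AddEquiv.map_eq_zero_iff]
    show CohomologyClass.mk _ = 0 ↔ _
    rw [CohomologyClass.mk_eq_zero_iff]
    exact Cocycle.fromSingleMk_mem_coboundaries_iff z.1 (zero_add n) n' hn' z.2 n'' hn''

end Groth.Agent.HdRVan
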