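import Groth.Agent.KFlat.Brutal
import Groth.Agent.SiteCoh.TruncCoh
import Groth.Agent.CohTop.Basic
import Groth.Prelude.Def_CohCx
import Mathlib.CategoryTheory.Triangulated.Yoneda
import Mathlib.Algebra.Homology.DerivedCategory.ShortExact

/-!
# Hypercohomology of a bounded complex vanishes above the bounds of its terms
-/

set_option autoImplicit false
set_option backward.isDefEq.respectTransparency.types false
set_option linter.style.haveILetI false

universe w w' v u

open CategoryTheory CategoryTheory.Limits Pretriangulated DerivedCategory

namespace Groth.Agent.HdRVan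

variable {A : Type u} [Category.{v} A] [Abelian A] [HasDerivedCategory.{w} A] [HasExt.{w'} A]

/-- Maps from a single object to a shifted bounded complex vanish if the terms have no `Ext`. -/
theorem hom_eq_zero_of_terms (G : A) (E : CochainComplex A ℤ) (a b i : ℤ)
    (hv : ∀ q, q < a ∨ b < q → IsZero (E.X q))
    (h : ∀ (q : ℤ) (k : ℕ), q + k = i → Subsingleton (Abelian.Ext G (E.X q) k))
    (f : (singleFunctor A 0).obj G ⟶ (DerivedCategory.Q.obj E)⟦i⟧) : f = 0 := by
  have key : ∀ (k : ℕ) (n : ℤ), b + 1 ≤ n + k →
      ∀ g : (singleFunctor A 0).obj G ⟶ (DerivedCategory.Q.obj (KFlat.ge E n))⟦i⟧, g = 0 := by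
    intro k
    induction k with
    | zero =>
      intro n hn g
      have hz : IsZero (KFlat.ge E n) := by
        rw [IsZero.iff_id_eq_zero]
        refine HomologicalComplex.hom_ext _ _ fun q => ?_
        refine (show IsZero ((KFlat.ge E n).X q) from ?_).eq_of_src _ _
        by_cases hq : q < n
        · exact KFlat.isZero_ge_X E hq
        · exact (hv q (Or.inr (by omega))).of_iso
            { hom := KFlat.geι E n q
              inv := KFlat.geπ E n q
              hom_inv_id := KFlat.geι_π E n q
              inv_hom_id := KFlat.geπ_ι E (by omega) }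
      exact ((shiftFunctor (DerivedCategory A) i).map_isZero (DerivedCategory.Q.map_isZero hz)).eq_of_tgt _ _
    | succ k ih =>
      intro n hn g
      have hS : (KFlat.geSeq E n).ShortExact := HomologicalComplex.shortExact_of_degreewise_shortExact _
        fun q => (KFlat.geSplitting E n q).shortExact
      have hT := Triangle.shift_distinguished _ (DerivedCategory.triangleOfSES_distinguished hS) i
      obtain ⟨g', hg'⟩ := Triangle.coyoneda_exact₂ _ hT g (by
        let e := (shiftFunctor (DerivedCategory A) i).mapIso
          ((DerivedCategory.singleFunctorIsoCompQ A n).app (E.X n))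
        refine (cancel_mono e.inv).1 ?_
        refine Eq.trans ?_ (zero_comp (f := e.inv)).symm
        exact SiteCoh.TruncCoh.single_hom_eq_zero G (E.X n) n i (fun m hm => h n m hm) _)
      rw [hg', show g' = 0 from ih (n + 1) (by omega) g']
      exact zero_comp
  have hiso : IsIso (KFlat.geToSelf E a) := by
    have : ∀ q, IsIso ((KFlat.geToSelf E a).f q) := fun q => by
      by_cases hq : q < a
      · exact ⟨0, (KFlat.isZero_ge_X E hq).eq_of_src _ _, (hv q (Or.inl hq)).eq_of_src _ _⟩
      · exact ⟨KFlat.geπ E a q, KFlat.geι_π E a q, KFlat.geπ_ι E (by omega)⟩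
    exact HomologicalComplex.Hom.isIso_of_components _
  let e := (shiftFunctor (DerivedCategory A) i).mapIso (DerivedCategory.Q.mapIso (asIso (KFlat.geToSelf E a)))
  rw [← cancel_mono e.inv, zero_comp]
  exact key (b + 1 - a).toNat a (by omega) _

end Groth.Agent.HdRVan
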