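import Groth.Agent.HdRVan.Core
import Groth.Prelude.Def_KLinDR
import Mathlib.RingTheory.Noetherian.Basic

/-!
# Finiteness of hypercohomology as a module from finiteness of the terms
-/

set_option autoImplicit false
set_option backward.isDefEq.respectTransparency.types false
set_option linter.style.haveILetI false

universe w u' v u

open CategoryTheory CategoryTheory.Limits Pretriangulated DerivedCategory

noncomputable section

namespace Groth.Agent.HdRVan.FiniteGen

open Groth.Agent.KFlat

variable {A : Type u} [Category.{v} A] [Abelian A] {R : Type u'}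

section

variable [Ring R] {K : CochainComplex A ℤ}

/-- An action on a complex restricted to a brutal truncation. -/
def ρge (ρ : R →+* End K) (m : ℤ) : R →+* End (ge K m) where
  toFun a :=
    { f := fun q => geι K m q ≫ (ρ a : K ⟶ K).f q ≫ geπ K m q
      comm' := fun p q _ => by
        show (geι K m p ≫ (ρ a : K ⟶ K).f p ≫ geπ K m p) ≫ geι K m p ≫ K.d p q ≫ geπ K m q =
          (geι K m p ≫ K.d p q ≫ geπ K m q) ≫ geι K m q ≫ (ρ a : K ⟶ K).f q ≫ geπ K m q
        by_cases hp : m ≤ p
        · have h1 : geι K m p ≫ K.d p q ≫ geπ K m q ≫ geι K m q = geι K m p ≫ K.d p q :=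
            geι_d_π_ι K m p q
          simp only [Category.assoc]
          rw [← Category.assoc (geπ K m p), geπ_ι K hp, Category.id_comp, reassoc_of% h1,
            HomologicalComplex.Hom.comm_assoc]
        · exact (isZero_geX K (by omega : p < m)).eq_of_src _ _ }
  map_one' := HomologicalComplex.hom_ext _ _ fun q => by
    show geι K m q ≫ (ρ 1 : K ⟶ K).f q ≫ geπ K m q = 𝟙 _
    rw [map_one]
    exact ((congrArg (geι K m q ≫ ·) (Category.id_comp _)).trans (geι_π K m q))
  map_mul' a b := HomologicalComplex.hom_ext _ _ fun q => by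
    show geι K m q ≫ (ρ (a * b) : K ⟶ K).f q ≫ geπ K m q =
      (geι K m q ≫ (ρ b : K ⟶ K).f q ≫ geπ K m q) ≫ geι K m q ≫ (ρ a : K ⟶ K).f q ≫ geπ K m q
    by_cases hq : m ≤ q
    · simp only [Category.assoc]
      rw [← Category.assoc (geπ K m q), geπ_ι K hq, Category.id_comp, map_mul]
      exact congrArg (geι K m q ≫ ·) (Category.assoc _ _ _)
    · exact (isZero_geX K (by omega : q < m)).eq_of_src _ _
  map_zero' := HomologicalComplex.hom_ext _ _ fun q => by
    show geι K m q ≫ (ρ 0 : K ⟶ K).f q ≫ geπ K m q = 0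
    rw [map_zero]
    exact (congrArg (geι K m q ≫ ·) zero_comp).trans comp_zero
  map_add' a b := HomologicalComplex.hom_ext _ _ fun q => by
    show geι K m q ≫ (ρ (a + b) : K ⟶ K).f q ≫ geπ K m q =
      geι K m q ≫ (ρ a : K ⟶ K).f q ≫ geπ K m q + geι K m q ≫ (ρ b : K ⟶ K).f q ≫ geπ K m q
    rw [map_add]
    exact (congrArg (geι K m q ≫ ·) (Preadditive.add_comp _ _ _ _ _ _)).trans (Preadditive.comp_add _ _ _ _ _ _)

/-- An action on a complex read on one term placed in its degree. -/
def ρsingle (ρ : R →+* End K) (m : ℤ) :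
    R →+* End ((HomologicalComplex.single A (ComplexShape.up ℤ) m).obj (K.X m)) where
  toFun a := (HomologicalComplex.single A (ComplexShape.up ℤ) m).map ((ρ a : K ⟶ K).f m)
  map_one' := by
    rw [map_one]
    exact (HomologicalComplex.single A (ComplexShape.up ℤ) m).map_id _
  map_mul' a b := by
    rw [map_mul]
    exact (HomologicalComplex.single A (ComplexShape.up ℤ) m).map_comp _ _
  map_zero' := by
    rw [map_zero]
    exact (HomologicalComplex.single A (ComplexShape.up ℤ) m).map_zero _ _
  map_add' a b := by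
    rw [map_add]
    exact (HomologicalComplex.single A (ComplexShape.up ℤ) m).map_add

theorem commutes_geToSelf (ρ : R →+* End K) (m : ℤ) : KLinDR.Commutes (ρge ρ m) ρ (geToSelf K m) := fun a =>
  HomologicalComplex.hom_ext _ _ fun q => by
    show (geι K m q ≫ (ρ a : K ⟶ K).f q ≫ geπ K m q) ≫ geι K m q = geι K m q ≫ (ρ a : K ⟶ K).f q
    by_cases hq : m ≤ q
    · simp only [Category.assoc, geπ_ι K hq, Category.comp_id]
    · exact (isZero_geX K (by omega : q < m)).eq_of_src _ _

theorem commutes_geMap (ρ : R →+* End K) (m m' : ℤ) (h : m' ≤ m) :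
    KLinDR.Commutes (ρge ρ m) (ρge ρ m') (geMap K m m' h) := fun a => HomologicalComplex.hom_ext _ _ fun q => by
  show (geι K m q ≫ (ρ a : K ⟶ K).f q ≫ geπ K m q) ≫ geι K m q ≫ geπ K m' q =
    (geι K m q ≫ geπ K m' q) ≫ geι K m' q ≫ (ρ a : K ⟶ K).f q ≫ geπ K m' q
  by_cases hq : m ≤ q
  · simp only [Category.assoc]
    rw [← Category.assoc (geπ K m q), geπ_ι K hq, Category.id_comp, ← Category.assoc (geπ K m' q),
      geπ_ι K (h.trans hq), Category.id_comp]
  · exact (isZero_geX K (by omega : q < m)).eq_of_src _ _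

theorem commutes_geBottom (ρ : R →+* End K) (m : ℤ) :
    KLinDR.Commutes (ρge ρ m) (ρsingle ρ m) (geBottom K m) := fun a => by
  refine HomologicalComplex.to_single_hom_ext ?_
  show (geι K m m ≫ (ρ a : K ⟶ K).f m ≫ geπ K m m) ≫ (geBottom K m).f m =
    (geBottom K m).f m ≫ ((HomologicalComplex.single A (ComplexShape.up ℤ) m).map ((ρ a : K ⟶ K).f m)).f m
  rw [geBottom_f, HomologicalComplex.single_map_f_self]
  simp only [Category.assoc]
  rw [← Category.assoc (geπ K m m), geπ_ι K le_rfl, Category.id_comp]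
  exact (congrArg (geι K m m ≫ ·) (Iso.inv_hom_id_assoc _ _).symm).trans (Category.assoc _ _ _).symm

variable [HasDerivedCategory.{w} A] (T : A)

/-- Hom from an object in degree `0` into a complex living above `i`, shifted by `i`. -/
theorem subsingleton_HT_of_isStrictlyGE (E : CochainComplex A ℤ) (i m : ℤ) (h : i < m)
    (hE : ∀ q, q < m → IsZero (E.X q)) : Subsingleton (E1Deg.HT T E i) := by
  haveI : E.IsStrictlyGE m := (CochainComplex.isStrictlyGE_iff _ _).2 hE
  refine subsingleton_of_forall_eq 0 fun x => ?_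
  exact TStructure.t.zero_of_isLE_of_isGE x 0 (m - i) (by omega) inferInstance
    (TStructure.t.isGE_shift (DerivedCategory.Q.obj E) m i (m - i) (by omega))

end

variable [CommRing R] [IsNoetherianRing R] [HasDerivedCategory.{w} A] (T : A) {K : CochainComplex A ℤ}

theorem finite_step (ρ : R →+* End K) (m i : ℤ)
    (h₁ : Module.Finite R (KLinDR.HTρ T (ge K (m + 1)) (ρge ρ (m + 1)) i))
    (h₂ : Module.Finite R (KLinDR.HTρ T ((HomologicalComplex.single A (ComplexShape.up ℤ) m).obj (K.X m)) (ρsingle ρ m) i)) :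
    Module.Finite R (KLinDR.HTρ T (ge K m) (ρge ρ m) i) := by
  let α := KLinDR.HTρmap T (geMap K (m + 1) m (by omega)) (commutes_geMap ρ _ _ _) i
  let β := KLinDR.HTρmap T (geBottom K m) (commutes_geBottom ρ m) i
  have hS : (geSeq K m).ShortExact := HomologicalComplex.shortExact_of_degreewise_shortExact _
    fun q => (geSplitting K m q).shortExact
  have hT := Triangle.shift_distinguished _ (DerivedCategory.triangleOfSES_distinguished hS) i
  have hk : LinearMap.ker β ≤ LinearMap.range α := fun g hg => by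
    have hg' : KLinDR.HTρ.toHT g ≫ (shiftFunctor (DerivedCategory A) i).map (DerivedCategory.Q.map (geBottom K m)) = 0 :=
      hg
    obtain ⟨g', hg''⟩ := Triangle.coyoneda_exact₂ _ hT (KLinDR.HTρ.toHT g)
      ((Linear.comp_units_smul _ _ _).trans ((congrArg (i.negOnePow • ·) hg').trans (smul_zero _)))
    refine ⟨KLinDR.HTρ.toHT.symm (i.negOnePow • g'), ?_⟩
    show (i.negOnePow • g') ≫ (shiftFunctor (DerivedCategory A) i).map (DerivedCategory.Q.map (geMap K (m + 1) m _)) = _
    exact ((Linear.units_smul_comp _ _ _).trans (Linear.comp_units_smul _ _ _).symm).trans hg''.symm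
  haveI : IsNoetherian R (LinearMap.range α) := isNoetherian_of_isNoetherianRing_of_finite _ _
  haveI : IsNoetherian R (LinearMap.ker β) := isNoetherian_of_le hk
  haveI : IsNoetherian R (LinearMap.range β) := by
    haveI : IsNoetherian R (KLinDR.HTρ T ((HomologicalComplex.single A (ComplexShape.up ℤ) m).obj (K.X m)) (ρsingle ρ m) i) :=
      isNoetherian_of_isNoetherianRing_of_finite _ _
    infer_instance
  haveI : IsNoetherian R (KLinDR.HTρ T (ge K m) (ρge ρ m) i) :=
    isNoetherian_of_range_eq_ker (LinearMap.ker β).subtype β.rangeRestrict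
      (by rw [Submodule.range_subtype, LinearMap.ker_rangeRestrict])
  infer_instance

/-- Hypercohomology is finite when that of each term is. -/
theorem finite_HTρ (ρ : R →+* End K) (hK : ∀ q, q < 0 → IsZero (K.X q)) (i : ℤ)
    (hsingle : ∀ m : ℕ, (m : ℤ) ≤ i → Module.Finite R
      (KLinDR.HTρ T ((HomologicalComplex.single A (ComplexShape.up ℤ) (m : ℤ)).obj (K.X m)) (ρsingle ρ (m : ℤ)) i)) :
    Module.Finite R (KLinDR.HTρ T K ρ i) := by
  have key : ∀ j : ℕ, ∀ m : ℤ, i + 1 - j = m → Module.Finite R (KLinDR.HTρ T (ge K m) (ρge ρ m) i) := by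
    intro j
    induction j with
    | zero =>
      intro m hm
      haveI : Subsingleton (KLinDR.HTρ T (ge K m) (ρge ρ m) i) :=
        subsingleton_HT_of_isStrictlyGE T (ge K m) i m (by omega) fun q hq => isZero_ge_X K hq
      infer_instance
    | succ j ih =>
      intro m hm
      refine finite_step T ρ m i (ih (m + 1) (by omega)) ?_
      rcases lt_or_ge m 0 with hlt | hge
      · haveI : Subsingleton (KLinDR.HTρ T ((HomologicalComplex.single A (ComplexShape.up ℤ) m).obj (K.X m))
            (ρsingle ρ m) i) :=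
          subsingleton_HT_of_isStrictlyGE T _ i (i + 1) (by omega) fun q _ => by
            by_cases hq : q = m
            · subst hq
              exact (hK q hlt).of_iso (HomologicalComplex.singleObjXSelf (ComplexShape.up ℤ) q (K.X q))
            · exact HomologicalComplex.isZero_single_obj_X (ComplexShape.up ℤ) m (K.X m) q hq
        infer_instance
      · obtain ⟨p, rfl⟩ : ∃ p : ℕ, m = p := ⟨m.toNat, by omega⟩
        exact hsingle p (by omega)
  obtain ⟨j, m, hj, hm⟩ : ∃ j : ℕ, ∃ m : ℤ, i + 1 - j = m ∧ m ≤ 0 := ⟨(i + 1).toNat, _, rfl, by omega⟩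
  haveI := key j m hj
  haveI : IsIso (geToSelf K m) := by
    haveI : ∀ q, IsIso ((geToSelf K m).f q) := fun q => by
      by_cases hq : q < m
      · exact ⟨0, (isZero_ge_X K hq).eq_of_src _ _, (hK q (by omega)).eq_of_src _ _⟩
      · exact ⟨geπ K m q, geι_π K m q, geπ_ι K (by omega)⟩
    exact HomologicalComplex.Hom.isIso_of_components _
  refine Module.Finite.of_surjective (KLinDR.HTρmap T (geToSelf K m) (commutes_geToSelf ρ m) i) fun y => ?_
  let e := (shiftFunctor (DerivedCategory A) i).mapIso (DerivedCategory.Q.mapIso (asIso (geToSelf K m)))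
  exact ⟨KLinDR.HTρ.toHT.symm (KLinDR.HTρ.toHT y ≫ e.inv), (Category.assoc _ _ _).trans
    ((congrArg (KLinDR.HTρ.toHT y ≫ ·) e.inv_hom_id).trans (Category.comp_id _))⟩

end Groth.Agent.HdRVan.FiniteGen

end
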