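import Groth.Agent.S15536
import Groth.Agent.DeRham48.Ext
import Mathlib.Algebra.MvPolynomial.Equiv
import Mathlib.Algebra.Algebra.Rat

/-!
# The algebraic Poincaré lemma for polynomial rings
-/

set_option autoImplicit false

universe u

open exteriorPower

noncomputable section

namespace Groth.Agent.HdRVan.Poincare

/-- The de Rham differential on forms exists. -/
theorem exists_isDiff (R A : Type u) [CommRing R] [CommRing A] [Algebra R A] :
    ∃ d : ∀ p : ℕ, ↥(⋀[A]^p (Ω[A⁄R])) →ₗ[R] ↥(⋀[A]^(p + 1) (Ω[A⁄R])),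
      _root_.DeRham.IsDiff (KaehlerDifferential.D R A) d := by
  let d : ∀ p : ℕ, ↥(⋀[A]^p (Ω[A⁄R])) →ₗ[R] ↥(⋀[A]^(p + 1) (Ω[A⁄R])) := fun p =>
    { toFun := fun x => ⟨DeRham48.d R A x.1, DeRham48.d_mem R A x.2⟩
      map_add' := fun x y => Subtype.ext (map_add (DeRham48.d R A) x.1 y.1)
      map_smul' := fun r x => Subtype.ext ((DeRham48.d R A).map_smul r x.1) }
  refine ⟨d, DeRham.Basic.isDiff_of_isRule (KaehlerDifferential.span_range_derivation R A) fun p b₀ b => Subtype.ext ?_⟩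
  have hw : ∀ (q : ℕ) (c : Fin q → A),
      DeRham48.dFun R A (ExteriorAlgebra.ιMulti A q fun i => KaehlerDifferential.D R A (c i)) = 0 := by
    intro q
    induction q with
    | zero =>
      intro c
      rw [ExteriorAlgebra.ιMulti_zero_apply, ← map_one (algebraMap A (ExteriorAlgebra A (Ω[A⁄R]))),
        DeRham48.dFun_algebraMap, Derivation.map_one_eq_zero, map_zero]
    | succ q ih =>
      intro c
      rw [ExteriorAlgebra.ιMulti_succ_apply, DeRham48.dFun_mul, DeRham48.dFun_ι_D, zero_mul, add_zero]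
      exact (congrArg _ (ih fun i => c i.succ)).trans (mul_zero _)
  show DeRham48.dFun R A (b₀ • ExteriorAlgebra.ιMulti A p fun i => KaehlerDifferential.D R A (b i)) =
    ExteriorAlgebra.ιMulti A (p + 1) (Fin.cons (KaehlerDifferential.D R A b₀) fun i => KaehlerDifferential.D R A (b i))
  rw [Algebra.smul_def, DeRham48.dFun_mul, DeRham48.dFun_algebraMap, hw, mul_zero, zero_add,
    ExteriorAlgebra.ιMulti_succ_apply, Fin.cons_zero]
  exact congrArg _ (congrArg _ (funext fun i => by simp [Matrix.vecTail]))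

open _root_.DeRham in
/-- `A` has the de Rham cohomology of the base. -/
def IsAcyc (R A : Type u) [CommRing R] [CommRing A] [Algebra R A] : Prop :=
  ∀ d : ∀ p : ℕ, ↥(⋀[A]^p (Ω[A⁄R])) →ₗ[R] ↥(⋀[A]^(p + 1) (Ω[A⁄R])),
    _root_.DeRham.IsDiff (KaehlerDifferential.D R A) d →
      (∀ i, i ≠ 0 → cocycles d i ≤ coboundaries d i) ∧
      ∀ y ∈ cocycles d 0, ∃ c : R, zeroEquiv A (Ω[A⁄R]) y = algebraMap R A c

section

variable {R A B : Type u} [CommRing R] [CommRing A] [Algebra R A] [CommRing B] [Algebra R B]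

theorem zeroEquiv_cxMap (g : A →+* B) (hg : ∀ r, g (algebraMap R A r) = algebraMap R B r)
    {ψ : ∀ p : ℕ, ↥(⋀[A]^p (Ω[A⁄R])) →+ ↥(⋀[B]^p (Ω[B⁄R]))}
    (hψ : _root_.DeRham.IsCxMap (KaehlerDifferential.D R A) (KaehlerDifferential.D R B) g ψ)
    (x : ↥(⋀[A]^0 (Ω[A⁄R]))) : zeroEquiv B (Ω[B⁄R]) (ψ 0 x) = g (zeroEquiv A (Ω[A⁄R]) x) := by
  refine DeRham.Basic.gen_induction (KaehlerDifferential.D R A) (KaehlerDifferential.span_range_derivation R A)
    (P := fun x => zeroEquiv B (Ω[B⁄R]) (ψ 0 x) = g (zeroEquiv A (Ω[A⁄R]) x)) ?_ ?_ ?_ x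
  · simp
  · intro y z hy hz
    simp only [map_add, hy, hz]
  · intro b₀ b
    rw [hψ, DeRham.Basic.gen_eq, DeRham.Basic.gen_eq, map_smul, map_smul, zeroEquiv_ιMulti, zeroEquiv_ιMulti,
      smul_eq_mul, smul_eq_mul, mul_one, mul_one]

theorem of_algEquiv (g : A ≃ₐ[R] B) (hA : IsAcyc R A)
    {dA : ∀ p : ℕ, ↥(⋀[A]^p (Ω[A⁄R])) →ₗ[R] ↥(⋀[A]^(p + 1) (Ω[A⁄R]))}
    (hdA : _root_.DeRham.IsDiff (KaehlerDifferential.D R A) dA) : IsAcyc R B := by
  intro d hd
  obtain ⟨h₁, h₀⟩ := hA dA hdA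
  letI : Algebra A B := g.toAlgHom.toRingHom.toAlgebra
  letI : Algebra B A := g.symm.toAlgHom.toRingHom.toAlgebra
  haveI : IsScalarTower R A B := IsScalarTower.of_algebraMap_eq fun r => (g.commutes r).symm
  haveI : IsScalarTower R B A := IsScalarTower.of_algebraMap_eq fun r => (g.symm.commutes r).symm
  let ψ := fun p => (DeRham.Basic.kaehlerMap R R A B p).toAddMonoidHom
  let φ := fun p => (DeRham.Basic.kaehlerMap R R B A p).toAddMonoidHom
  have hψ := DeRham.Basic.kaehlerMap_isCxMap R R A B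
  have hφ := DeRham.Basic.kaehlerMap_isCxMap R R B A
  have hgen := KaehlerDifferential.span_range_derivation R B
  have hψφ : ∀ p y, ψ p (φ p y) = y := fun p y => by
    have h : (ψ p).comp (φ p) = AddMonoidHom.id _ :=
      DeRham.Basic.gen_hom_ext _ hgen fun b₀ b => by
        show ψ p (φ p _) = _
        rw [hφ, hψ]
        have e : ∀ x : B, algebraMap A B (algebraMap B A x) = x := fun x => g.apply_symm_apply x
        simp only [e, AddMonoidHom.id_apply]
    exact DFunLike.congr_fun h y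
  have hψd : ∀ p x, ψ (p + 1) (dA p x) = d p (ψ p x) := fun p x =>
    DeRham.Basic.cxMap_comm _ (KaehlerDifferential.span_range_derivation R A) hdA.1 hd.1 hψ p x
  have hφd : ∀ p y, φ (p + 1) (d p y) = dA p (φ p y) := fun p y =>
    DeRham.Basic.cxMap_comm _ hgen hd.1 hdA.1 hφ p y
  have hcoc : ∀ i, ∀ y ∈ _root_.DeRham.cocycles d i, φ i y ∈ _root_.DeRham.cocycles dA i := fun i y hy =>
    (hφd i y).symm.trans ((congrArg (φ (i + 1)) hy).trans (map_zero _))
  refine ⟨fun i hi y hy => ?_, fun y hy => ?_⟩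
  · obtain ⟨j, rfl⟩ := Nat.exists_eq_succ_of_ne_zero hi
    obtain ⟨η, hη⟩ := h₁ _ hi (hcoc _ y hy)
    exact ⟨ψ j η, by rw [← hψd, hη, hψφ]⟩
  · obtain ⟨c, hc⟩ := h₀ _ (hcoc 0 y hy)
    refine ⟨c, ?_⟩
    rw [← hψφ 0 y, zeroEquiv_cxMap (algebraMap A B) (fun r => g.commutes r) hψ, hc]
    exact g.commutes c

open Polynomial in
theorem polynomial [Algebra ℚ R] (hA : IsAcyc R A)
    {dA : ∀ p : ℕ, ↥(⋀[A]^p (Ω[A⁄R])) →ₗ[R] ↥(⋀[A]^(p + 1) (Ω[A⁄R]))}
    (hdA : _root_.DeRham.IsDiff (KaehlerDifferential.D R A) dA) : IsAcyc R A[X] := by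
  intro d hd
  obtain ⟨h₁, h₀⟩ := hA dA hdA
  let ψ := fun p => (DeRham.Basic.kaehlerMap R R A A[X] p).toAddMonoidHom
  have hψ : _root_.DeRham.IsCxMap (KaehlerDifferential.D R A) (KaehlerDifferential.D R A[X]) (algebraMap A A[X]) ψ :=
    DeRham.Basic.kaehlerMap_isCxMap R R A A[X]
  have hψd : ∀ p x, ψ (p + 1) (dA p x) = d p (ψ p x) := fun p x =>
    DeRham.Basic.cxMap_comm _ (KaehlerDifferential.span_range_derivation R A) hdA.1 hd.1 hψ p x
  refine ⟨fun i hi y hy => ?_, fun y hy => ?_⟩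
  · obtain ⟨x, hx, hxy⟩ := (S15536.result R A dA hdA d hd ψ hψ hψd i).1 y hy
    obtain ⟨j, rfl⟩ := Nat.exists_eq_succ_of_ne_zero hi
    obtain ⟨η, hη⟩ := h₁ _ hi hx
    have h : ψ (j + 1) x ∈ _root_.DeRham.coboundaries d (j + 1) := ⟨ψ j η, by rw [← hψd, hη]⟩
    simpa using add_mem hxy h
  · obtain ⟨x, hx, hxy⟩ := (S15536.result R A dA hdA d hd ψ hψ hψd 0).1 y hy
    obtain ⟨c, hc⟩ := h₀ x hx
    refine ⟨c, ?_⟩
    rw [sub_eq_zero.1 ((Submodule.mem_bot R).1 hxy), zeroEquiv_cxMap (algebraMap A A[X])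
      (fun r => (IsScalarTower.algebraMap_apply R A A[X] r).symm) hψ, hc, ← IsScalarTower.algebraMap_apply]

theorem self : IsAcyc R R := by
  intro d _
  refine ⟨fun i hi y hy' => ?_, fun y _ => ⟨zeroEquiv R _ y, rfl⟩⟩
  clear hy'
  haveI : Subsingleton Ω[R⁄R] :=
    KaehlerDifferential.subsingleton_of_surjective R R Function.surjective_id
  obtain ⟨j, rfl⟩ := Nat.exists_eq_succ_of_ne_zero hi
  have h : y ∈ Submodule.span R (Set.range (ιMulti R (j + 1) (M := Ω[R⁄R]))) := by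
    rw [ιMulti_span R (j + 1) Ω[R⁄R]]; trivial
  have hy : y = 0 := by
    induction h using Submodule.span_induction with
    | mem z hz =>
      obtain ⟨v, rfl⟩ := hz
      exact (ιMulti R (j + 1)).map_coord_zero (0 : Fin (j + 1)) (Subsingleton.elim _ _)
    | zero => rfl
    | add a b _ _ ha hb => rw [ha, hb, add_zero]
    | smul r a _ ha => rw [ha, smul_zero]
  rw [hy]
  exact zero_mem _

end

open Polynomial in
/-- Polynomial rings in finitely many variables over a `ℚ`-algebra. -/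
theorem mvPolynomial (R : Type u) [CommRing R] [Algebra ℚ R] :
    ∀ n : ℕ, IsAcyc R (MvPolynomial (Fin n) R)
  | 0 => by
    obtain ⟨dA, hdA⟩ := exists_isDiff R R
    exact of_algEquiv (MvPolynomial.isEmptyAlgEquiv R (Fin 0)).symm self hdA
  | n + 1 => by
    obtain ⟨dA, hdA⟩ := exists_isDiff R (MvPolynomial (Fin n) R)
    obtain ⟨dP, hdP⟩ := exists_isDiff R (MvPolynomial (Fin n) R)[X]
    exact of_algEquiv (MvPolynomial.finSuccEquiv R n).symm (polynomial (mvPolynomial R n) hdA) hdP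

end Groth.Agent.HdRVan.Poincare

end
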