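import Groth.Agent.HdRVan.ProjStep

/-!
# One term of a complex of abelian sheaves placed in a degree
-/

set_option autoImplicit false
set_option backward.isDefEq.respectTransparency.types false
set_option linter.style.haveILetI false

universe u

open CategoryTheory CategoryTheory.Limits AlgebraicGeometry TopologicalSpace DerivedCategory

noncomputable section

namespace Groth.Agent.HdRVan.ProjSingle

variable {X : Scheme.{u}} [HasDerivedCategory.{u} (Sheaf (Opens.grothendieckTopology X) AddCommGrpCat.{u})]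

/-- A single module in degree `p` sees its own cohomology. -/
theorem exists_singleEquiv (M : (Sheaf (Opens.grothendieckTopology X) AddCommGrpCat.{u})) (L : X.Modules) (j : M ≅ Coh.toAb L) (p i : ℤ) (k : ℕ) (hk : p + k = i) :
    ∃ G : Coh.HH X L k ≃+ E1Deg.HT (CohCx.freeSheaf (Opens.grothendieckTopology X) (⊤ : X.Opens)) ((HomologicalComplex.single (Sheaf (Opens.grothendieckTopology X) AddCommGrpCat.{u}) (ComplexShape.up ℤ) p).obj M) i,
      ∀ (s : Coh.toAb L ⟶ Coh.toAb L) (r : M ⟶ M), r ≫ j.hom = j.hom ≫ s → ∀ x : Coh.HH X L k,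
        G (Sheaf.H.map s k x) =
          G x ≫ (shiftFunctor (DerivedCategory (Sheaf (Opens.grothendieckTopology X) AddCommGrpCat.{u})) i).map ((singleFunctor (Sheaf (Opens.grothendieckTopology X) AddCommGrpCat.{u}) p).map r) := by
  let η : singleFunctor (Sheaf (Opens.grothendieckTopology X) AddCommGrpCat.{u}) p ⋙ shiftFunctor (DerivedCategory (Sheaf (Opens.grothendieckTopology X) AddCommGrpCat.{u})) i ≅
      singleFunctor (Sheaf (Opens.grothendieckTopology X) AddCommGrpCat.{u}) 0 ⋙ shiftFunctor (DerivedCategory (Sheaf (Opens.grothendieckTopology X) AddCommGrpCat.{u})) (k : ℤ) :=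
    (DerivedCategory.singleFunctors (Sheaf (Opens.grothendieckTopology X) AddCommGrpCat.{u})).shiftIso i (p - i) p (by omega) ≪≫
      ((DerivedCategory.singleFunctors (Sheaf (Opens.grothendieckTopology X) AddCommGrpCat.{u})).shiftIso (k : ℤ) (p - i) 0 (by omega)).symm
  let H := CohTop.Basic.HEquivHUTop (X := X.toPresheafedSpace.carrier) (Coh.toAb L) k
  let w : Coh.HH X L k → Abelian.Ext (CohCx.freeSheaf (Opens.grothendieckTopology X) (⊤ : X.Opens)) M k := fun x =>
    Abelian.Ext.comp (H x) (Abelian.Ext.mk₀ j.inv) (add_zero k)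
  let G₀ : Coh.HH X L k →+ E1Deg.HT (CohCx.freeSheaf (Opens.grothendieckTopology X) (⊤ : X.Opens)) ((HomologicalComplex.single (Sheaf (Opens.grothendieckTopology X) AddCommGrpCat.{u}) (ComplexShape.up ℤ) p).obj M) i :=
    AddMonoidHom.mk' (fun x => (w x).hom ≫ η.inv.app M) fun x y => by
      have hadd : w (x + y) = w x + w y := by
        simp only [w, map_add]
        exact Abelian.Ext.add_comp _ _ _ _
      rw [hadd, Abelian.Ext.add_hom]
      exact Preadditive.add_comp (C := DerivedCategory (Sheaf (Opens.grothendieckTopology X) AddCommGrpCat.{u})) _ _ _ _ _ _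
  have hw : Function.Bijective w := by
    have hcomp : Function.Bijective (fun x : Abelian.Ext (CohCx.freeSheaf (Opens.grothendieckTopology X) (⊤ : X.Opens)) (Coh.toAb L) k =>
        Abelian.Ext.comp x (Abelian.Ext.mk₀ j.inv) (add_zero k)) := by
      refine Function.bijective_iff_has_inverse.2
        ⟨fun y : Abelian.Ext (CohCx.freeSheaf (Opens.grothendieckTopology X) (⊤ : X.Opens)) M k => Abelian.Ext.comp y (Abelian.Ext.mk₀ j.hom) (add_zero k), fun x => ?_, fun y => ?_⟩
      · simp
      · simp
    exact hcomp.comp H.bijective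
  have hG : Function.Bijective G₀ :=
    ((η.symm.app M).homToEquiv.bijective.comp Abelian.Ext.homEquiv.bijective).comp hw
  refine ⟨AddEquiv.ofBijective G₀ hG, fun s r hsr x => ?_⟩
  have hr : j.inv ≫ r = s ≫ j.inv := by
    rw [j.inv_comp_eq, ← Category.assoc, ← hsr, Category.assoc, j.hom_inv_id, Category.comp_id]
  have hws : w (Sheaf.H.map s k x) = (w x).comp (Abelian.Ext.mk₀ r) (add_zero k) := by
    show Abelian.Ext.comp (H (Sheaf.H.map s k x)) (Abelian.Ext.mk₀ j.inv) (add_zero k) = _
    rw [CohTop.Basic.HEquivHUTop_map]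
    refine (Abelian.Ext.comp_assoc_of_second_deg_zero _ _ _ _).trans ?_
    refine Eq.trans ?_ (Abelian.Ext.comp_assoc_of_second_deg_zero _ _ _ _).symm
    rw [Abelian.Ext.mk₀_comp_mk₀, Abelian.Ext.mk₀_comp_mk₀, hr]
  show (w (Sheaf.H.map s k x)).hom ≫ η.inv.app M = ((w x).hom ≫ η.inv.app M) ≫ _
  rw [hws, Abelian.Ext.comp_hom, Abelian.Ext.mk₀_hom, ShiftedHom.comp_mk₀, Category.assoc, Category.assoc]
  exact congrArg ((w x).hom ≫ ·) (η.inv.naturality _)

/-- Nothing below the degree of a single term. -/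
theorem subsingleton_single_of_lt (M : (Sheaf (Opens.grothendieckTopology X) AddCommGrpCat.{u})) (p i : ℤ) (h : i < p) :
    Subsingleton (E1Deg.HT (CohCx.freeSheaf (Opens.grothendieckTopology X) (⊤ : X.Opens)) ((HomologicalComplex.single (Sheaf (Opens.grothendieckTopology X) AddCommGrpCat.{u}) (ComplexShape.up ℤ) p).obj M) i) :=
  FiniteGen.subsingleton_HT_of_isStrictlyGE _ _ i p h fun q hq =>
    HomologicalComplex.isZero_single_obj_X (ComplexShape.up ℤ) p M q (by omega)

/-- Vanishing of a single piece. -/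
theorem subsingleton_single (M : (Sheaf (Opens.grothendieckTopology X) AddCommGrpCat.{u})) (L : X.Modules) (j : M ≅ Coh.toAb L) (p i : ℤ)
    (h : ∀ k : ℕ, p + k = i → Subsingleton (Coh.HH X L k)) :
    Subsingleton (E1Deg.HT (CohCx.freeSheaf (Opens.grothendieckTopology X) (⊤ : X.Opens)) ((HomologicalComplex.single (Sheaf (Opens.grothendieckTopology X) AddCommGrpCat.{u}) (ComplexShape.up ℤ) p).obj M) i) := by
  rcases lt_or_ge i p with hlt | hge
  · exact subsingleton_single_of_lt M p i hlt
  · obtain ⟨k, hk⟩ := Int.le.dest hge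
    obtain ⟨G, -⟩ := exists_singleEquiv M L j p i k hk
    haveI := h k hk
    exact G.symm.toEquiv.subsingleton

end Groth.Agent.HdRVan.ProjSingle

end
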