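import Groth.Agent.HdRVan.ProjSingle
import Groth.Prelude.Def_DeRham2
import Groth.Agent.S15530
import Groth.Agent.S15531

/-!
# De Rham cohomology of projective space from its Hodge cohomology
-/

set_option autoImplicit false
set_option backward.isDefEq.respectTransparency.types false
set_option linter.style.haveILetI false

universe u u'

open CategoryTheory CategoryTheory.Limits AlgebraicGeometry TopologicalSpace

noncomputable section

namespace Groth.Agent.HdRVan.ProjSpaceHdR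

variable {A : Type u} [CommRing A] {n : ℕ} [QuasiSeparated (CohB1.ProjSpace.toSpec n A)]
  (D : DeRhamSh.OmegaCx (CohB1.ProjSpace.toSpec n A))
  [HasDerivedCategory.{u} (Sheaf (Opens.grothendieckTopology ↥(CohB1.ProjSpace n A)) AddCommGrpCat.{u})]

/-- The identification of a term of the complex in nonnegative degree. -/
def jIso (p : ℕ) : D.KZ.X (p : ℤ) ≅ Coh.toAb (D.term p) :=
  D.K.extendXIso ComplexShape.embeddingUpNat (ComplexShape.embeddingUpNat_f p) ≪≫ D.iso p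

theorem isZero_neg (q : ℤ) (hq : q < 0) : IsZero (D.KZ.X q) :=
  D.K.isZero_extend_X ComplexShape.embeddingUpNat q fun p hp => by
    simp only [ComplexShape.embeddingUpNat_f] at hp
    omega

/-- All pieces vanish except in degree `2 * p` for `p ≤ n`. -/
theorem subsingleton_piece (hn : 1 ≤ n) (p : ℕ) (i : ℤ) (h : i ≠ 2 * (p : ℤ) ∨ n < p) :
    Subsingleton (E1Deg.HT (CohCx.freeSheaf (Opens.grothendieckTopology (CohB1.ProjSpace n A)) (⊤ : (CohB1.ProjSpace n A).Opens))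
      ((HomologicalComplex.single (Sheaf (Opens.grothendieckTopology (CohB1.ProjSpace n A)) AddCommGrpCat.{u})
        (ComplexShape.up ℤ) (p : ℤ)).obj (D.KZ.X (p : ℤ))) i) :=
  ProjSingle.subsingleton_single _ (D.term p) (jIso D p) _ i fun k hk =>
    S15530.result A n hn p (D.term p) (DeRhamSh.Cx.isExtPow D p) k (by omega)

theorem subsingleton_hdR (hn : 1 ≤ n) (m : ℤ) (hm : ∀ i : ℕ, i ≤ n → m ≠ 2 * (i : ℤ)) :
    Subsingleton (DeRhamSh.HdR D m) :=
  ProjStep.subsingleton_HT _ (Int.castRingHom (End D.KZ)) (isZero_neg D) m fun p =>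
    subsingleton_piece D hn p m (by
      rcases le_or_gt p n with hp | hp
      · exact Or.inl (hm p hp)
      · exact Or.inr hp)

theorem nonempty_linearEquiv_piece {R : Type u'} [Ring R] (ρ : R →+* End D.KZ) (hn : 1 ≤ n) (i : ℕ) :
    Nonempty (KLinDR.HTρ (CohCx.freeSheaf (Opens.grothendieckTopology (CohB1.ProjSpace n A)) (⊤ : (CohB1.ProjSpace n A).Opens))
      ((HomologicalComplex.single (Sheaf (Opens.grothendieckTopology (CohB1.ProjSpace n A)) AddCommGrpCat.{u})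
        (ComplexShape.up ℤ) (i : ℤ)).obj (D.KZ.X (i : ℤ))) (FiniteGen.ρsingle ρ (i : ℤ)) (2 * (i : ℤ))
      ≃ₗ[R] KLinDR.HTρ (CohCx.freeSheaf (Opens.grothendieckTopology (CohB1.ProjSpace n A)) (⊤ : (CohB1.ProjSpace n A).Opens))
        D.KZ ρ (2 * (i : ℤ))) :=
  ProjStep.nonempty_linearEquiv _ ρ (isZero_neg D) i _
    (fun p hp => subsingleton_piece D hn p _ (Or.inl (by omega)))
    (fun p _ => subsingleton_piece D hn p _ (Or.inl (by omega)))
    (fun p _ => subsingleton_piece D hn p _ (Or.inl (by omega)))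

theorem nonempty_addEquiv_piece {R : Type u'} [Ring R] (ρ : R →+* End D.KZ) (hn : 1 ≤ n) (i : ℕ) :
    Nonempty (E1Deg.HT (CohCx.freeSheaf (Opens.grothendieckTopology (CohB1.ProjSpace n A)) (⊤ : (CohB1.ProjSpace n A).Opens))
      ((HomologicalComplex.single (Sheaf (Opens.grothendieckTopology (CohB1.ProjSpace n A)) AddCommGrpCat.{u})
        (ComplexShape.up ℤ) (i : ℤ)).obj (D.KZ.X (i : ℤ))) (2 * (i : ℤ))
      ≃+ DeRhamSh.HdR D (2 * (i : ℤ))) := by
  obtain ⟨e⟩ := nonempty_linearEquiv_piece D ρ hn i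
  exact ⟨(KLinDR.HTρ.toHT.symm.trans e.toAddEquiv).trans KLinDR.HTρ.toHT⟩

theorem nonempty_addEquiv (hn : 1 ≤ n) (i : ℕ) (hi : i ≤ n) : Nonempty (DeRhamSh.HdR D (2 * (i : ℤ)) ≃+ A) := by
  obtain ⟨e⟩ := nonempty_addEquiv_piece D (Int.castRingHom (End D.KZ)) hn i
  obtain ⟨G, -⟩ := ProjSingle.exists_singleEquiv (D.KZ.X (i : ℤ)) (D.term i) (jIso D i) (i : ℤ) (2 * (i : ℤ)) i (by omega)
  obtain ⟨f⟩ := S15531.result A n hn i hi (D.term i) (DeRhamSh.Cx.isExtPow D i)
  exact ⟨(e.symm.trans G.symm).trans f.toAddEquiv⟩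

theorem nonempty_linearEquiv (hn : 1 ≤ n)
    (h : KLinDR.TermwiseLinear (Coh.toGlobal (CohB1.ProjSpace.toSpec n A)) D.K D.term D.iso) (i : ℕ) (hi : i ≤ n) :
    Nonempty (KLinDR.HdR (Coh.toGlobal (CohB1.ProjSpace.toSpec n A)) D h (2 * (i : ℤ)) ≃ₗ[A] A) := by
  obtain ⟨e⟩ := nonempty_linearEquiv_piece D (KLinDR.scalar.{u, u} h) hn i
  obtain ⟨G, hG⟩ := ProjSingle.exists_singleEquiv (D.KZ.X (i : ℤ)) (D.term i) (jIso D i) (i : ℤ) (2 * (i : ℤ)) i (by omega)
  obtain ⟨f⟩ := S15531.result A n hn i hi (D.term i) (DeRhamSh.Cx.isExtPow D i)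
  have hlin : ∀ (a : A) (x : Coh.HH (CohB1.ProjSpace n A) (D.term i) i),
      KLinDR.HTρ.toHT.symm (G (a • x)) =
        a • (KLinDR.HTρ.toHT.symm (G x) : KLinDR.HTρ (CohCx.freeSheaf (Opens.grothendieckTopology (CohB1.ProjSpace n A)) (⊤ : (CohB1.ProjSpace n A).Opens))
          ((HomologicalComplex.single (Sheaf (Opens.grothendieckTopology (CohB1.ProjSpace n A)) AddCommGrpCat.{u})
            (ComplexShape.up ℤ) (i : ℤ)).obj (D.KZ.X (i : ℤ))) (FiniteGen.ρsingle (KLinDR.scalar.{u, u} h) (i : ℤ)) (2 * (i : ℤ))) :=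
    fun a x => hG (Coh.smulAb (D.term i) (Coh.toGlobal (CohB1.ProjSpace.toSpec n A) a))
      ((KLinDR.scalar.{u, u} h a : D.KZ ⟶ D.KZ).f (i : ℤ)) (by
        rw [KLinDR.scalar_f]
        simp [jIso, KLinDR.scalarEnd]) x
  let g := (G.trans KLinDR.HTρ.toHT.symm).toLinearEquiv hlin
  exact ⟨(e.symm.trans g.symm).trans f⟩

end Groth.Agent.HdRVan.ProjSpaceHdR

end
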