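import Groth.Agent.HdRVan.FiniteGen
import Groth.Agent.CohTop.Basic
import Groth.Prelude.Def_Coh
import Mathlib.CategoryTheory.Triangulated.Yoneda

/-!
# Hypercohomology of a complex with one nonvanishing piece
-/

set_option autoImplicit false
set_option backward.isDefEq.respectTransparency.types false
set_option linter.style.haveILetI false

universe w u' v u

open CategoryTheory CategoryTheory.Limits Pretriangulated DerivedCategory

noncomputable section

namespace Groth.Agent.HdRVan.ProjStep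

open Groth.Agent.KFlat Groth.Agent.HdRVan.FiniteGen

variable {A : Type u} [Category.{v} A] [Abelian A] [HasDerivedCategory.{w} A] {R : Type u'} [Ring R]
  (T : A) {K : CochainComplex A ℤ} (ρ : R →+* End K)

theorem geTriangle (m i : ℤ) :
    (Triangle.shiftFunctor _ i).obj (DerivedCategory.triangleOfSES
      (HomologicalComplex.shortExact_of_degreewise_shortExact (geSeq K m)
        fun q => (geSplitting K m q).shortExact)) ∈ distTriang (DerivedCategory A) :=
  Triangle.shift_distinguished _ (DerivedCategory.triangleOfSES_distinguished _) i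

omit [HasDerivedCategory.{w} A] in
theorem negOnePow_smul_eq_zero_iff {D : Type*} [Category D] [Preadditive D] {X Y : D} (n : ℤ) (f : X ⟶ Y) :
    n.negOnePow • f = 0 ↔ f = 0 := by
  constructor
  · intro h
    have := congrArg (n.negOnePow • ·) h
    simpa [smul_smul] using this
  · rintro rfl
    exact smul_zero _

/-- The step map on hypercohomology. -/
def α (m i : ℤ) : KLinDR.HTρ T (ge K (m + 1)) (ρge ρ (m + 1)) i →ₗ[R] KLinDR.HTρ T (ge K m) (ρge ρ m) i :=
  KLinDR.HTρmap T (geMap K (m + 1) m (by omega)) (commutes_geMap ρ _ _ _) i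

/-- The bottom map on hypercohomology. -/
def β (m i : ℤ) : KLinDR.HTρ T (ge K m) (ρge ρ m) i →ₗ[R]
    KLinDR.HTρ T ((HomologicalComplex.single A (ComplexShape.up ℤ) m).obj (K.X m)) (ρsingle ρ m) i :=
  KLinDR.HTρmap T (geBottom K m) (commutes_geBottom ρ m) i

theorem mem_range_α {m i : ℤ} (g : KLinDR.HTρ T (ge K m) (ρge ρ m) i) (hg : β T ρ m i g = 0) :
    ∃ y, α T ρ m i y = g := by
  have hg' : KLinDR.HTρ.toHT g ≫ (shiftFunctor (DerivedCategory A) i).map (DerivedCategory.Q.map (geBottom K m)) = 0 :=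
    hg
  obtain ⟨g', hg''⟩ := Triangle.coyoneda_exact₂ _ (geTriangle m i) (KLinDR.HTρ.toHT g)
    ((Linear.comp_units_smul _ _ _).trans ((congrArg (i.negOnePow • ·) hg').trans (smul_zero _)))
  refine ⟨KLinDR.HTρ.toHT.symm (i.negOnePow • g'), ?_⟩
  show (i.negOnePow • g') ≫ (shiftFunctor (DerivedCategory A) i).map (DerivedCategory.Q.map (geMap K (m + 1) m _)) = _
  exact ((Linear.units_smul_comp _ _ _).trans (Linear.comp_units_smul _ _ _).symm).trans hg''.symm

theorem injective_α {m i : ℤ}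
    (h : Subsingleton (E1Deg.HT T ((HomologicalComplex.single A (ComplexShape.up ℤ) m).obj (K.X m)) (i - 1))) :
    Function.Injective (α T ρ m i) := by
  rw [injective_iff_map_eq_zero]
  intro g hg
  have hg' : KLinDR.HTρ.toHT g ≫ (shiftFunctor (DerivedCategory A) i).map
      (DerivedCategory.Q.map (geMap K (m + 1) m (by omega))) = 0 := hg
  obtain ⟨g', hg''⟩ := Triangle.coyoneda_exact₂ _ (inv_rot_of_distTriang _ (geTriangle m i)) (KLinDR.HTρ.toHT g)
    ((Linear.comp_units_smul _ _ _).trans ((congrArg (i.negOnePow • ·) hg').trans (smul_zero _)))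
  let e := (shiftFunctorAdd' (DerivedCategory A) i (-1) (i - 1) (by omega)).app
    (DerivedCategory.Q.obj ((HomologicalComplex.single A (ComplexShape.up ℤ) m).obj (K.X m)))
  have h0 : g' = 0 := (cancel_mono e.inv).1 (Eq.trans (h.elim _ 0) zero_comp.symm)
  rw [h0, zero_comp] at hg''
  exact hg''

theorem bijective_α {m i : ℤ}
    (h : Subsingleton (E1Deg.HT T ((HomologicalComplex.single A (ComplexShape.up ℤ) m).obj (K.X m)) i))
    (h' : Subsingleton (E1Deg.HT T ((HomologicalComplex.single A (ComplexShape.up ℤ) m).obj (K.X m)) (i - 1))) :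
    Function.Bijective (α T ρ m i) :=
  ⟨injective_α T ρ h', fun g => mem_range_α T ρ g (h.elim _ _)⟩

theorem bijective_β {m i : ℤ} (h : Subsingleton (E1Deg.HT T (ge K (m + 1)) i))
    (h' : Subsingleton (E1Deg.HT T (ge K (m + 1)) (i + 1))) :
    Function.Bijective (β T ρ m i) := by
  refine ⟨(injective_iff_map_eq_zero _).2 fun g hg => ?_, fun g => ?_⟩
  · obtain ⟨y, rfl⟩ := mem_range_α T ρ g hg
    rw [show y = 0 from h.elim _ _, map_zero]
  · let e := ((shiftFunctorAdd' (DerivedCategory A) i 1 (i + 1) rfl).app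
      (DerivedCategory.Q.obj (ge K (m + 1))))
    obtain ⟨g', hg'⟩ := Triangle.coyoneda_exact₃ _ (geTriangle m i) (KLinDR.HTρ.toHT g)
      ((cancel_mono e.inv).1 (Eq.trans (h'.elim _ 0) zero_comp.symm))
    refine ⟨KLinDR.HTρ.toHT.symm (i.negOnePow • g'), ?_⟩
    show (i.negOnePow • g') ≫ (shiftFunctor (DerivedCategory A) i).map (DerivedCategory.Q.map (geBottom K m)) = _
    exact ((Linear.units_smul_comp _ _ _).trans (Linear.comp_units_smul _ _ _).symm).trans hg'.symm

include ρ in
theorem subsingleton_ge {i : ℤ} (m : ℤ)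
    (h : ∀ q, m ≤ q → Subsingleton (E1Deg.HT T ((HomologicalComplex.single A (ComplexShape.up ℤ) q).obj (K.X q)) i)) :
    Subsingleton (E1Deg.HT T (ge K m) i) := by
  have key : ∀ (j : ℕ) (m' : ℤ), m ≤ m' → i + 1 ≤ m' + j → Subsingleton (E1Deg.HT T (ge K m') i) := by
    intro j
    induction j with
    | zero => exact fun m' _ hm => subsingleton_HT_of_isStrictlyGE T _ i m' (by omega) fun q hq => isZero_ge_X K hq
    | succ j ih =>
      intro m' h₁ h₂
      have hs := h m' h₁
      have hn := ih (m' + 1) (by omega) (by omega)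
      refine subsingleton_of_forall_eq 0 fun g => ?_
      obtain ⟨y, hy⟩ := mem_range_α T ρ (KLinDR.HTρ.toHT.symm g) (hs.elim _ _)
      rw [show y = 0 from hn.elim _ _, map_zero] at hy
      exact hy.symm
  exact key (i + 1 - m).toNat m le_rfl (by omega)

omit [HasDerivedCategory.{w} A] in
theorem isIso_geToSelf (hK : ∀ q, q < 0 → IsZero (K.X q)) : IsIso (geToSelf K 0) := by
  haveI : ∀ q, IsIso ((geToSelf K 0).f q) := fun q => by
    by_cases hq : q < 0
    · exact ⟨0, (isZero_ge_X K hq).eq_of_src _ _, (hK q hq).eq_of_src _ _⟩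
    · exact ⟨geπ K 0 q, geι_π K 0 q, geπ_ι K (by omega)⟩
  exact HomologicalComplex.Hom.isIso_of_components _

theorem bijective_toSelf (hK : ∀ q, q < 0 → IsZero (K.X q)) (i : ℤ) :
    Function.Bijective (KLinDR.HTρmap T (geToSelf K 0) (commutes_geToSelf ρ 0) i) := by
  haveI := isIso_geToSelf hK
  let e := (shiftFunctor (DerivedCategory A) i).mapIso (DerivedCategory.Q.mapIso (asIso (geToSelf K 0)))
  exact e.homToEquiv.bijective

include ρ in
/-- Vanishing from that of every piece. -/
theorem subsingleton_HT (hK : ∀ q, q < 0 → IsZero (K.X q)) (i : ℤ)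
    (h : ∀ p : ℕ, Subsingleton (E1Deg.HT T ((HomologicalComplex.single A (ComplexShape.up ℤ) (p : ℤ)).obj (K.X (p : ℤ))) i)) :
    Subsingleton (E1Deg.HT T K i) := by
  haveI := subsingleton_ge T ρ (i := i) 0 fun q hq => by
    obtain ⟨p, rfl⟩ : ∃ p : ℕ, q = p := ⟨q.toNat, by omega⟩
    exact h p
  haveI : Subsingleton (KLinDR.HTρ T (ge K 0) (ρge ρ 0) i) := ‹_›
  exact (bijective_toSelf T ρ hK i).2.subsingleton

/-- A single nonvanishing piece computes everything. -/
theorem nonempty_linearEquiv (hK : ∀ q, q < 0 → IsZero (K.X q)) (j : ℕ) (i : ℤ)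
    (h : ∀ p : ℕ, p ≠ j → Subsingleton (E1Deg.HT T ((HomologicalComplex.single A (ComplexShape.up ℤ) (p : ℤ)).obj (K.X (p : ℤ))) i))
    (hm : ∀ p : ℕ, p < j → Subsingleton (E1Deg.HT T ((HomologicalComplex.single A (ComplexShape.up ℤ) (p : ℤ)).obj (K.X (p : ℤ))) (i - 1)))
    (hp : ∀ p : ℕ, j < p → Subsingleton (E1Deg.HT T ((HomologicalComplex.single A (ComplexShape.up ℤ) (p : ℤ)).obj (K.X (p : ℤ))) (i + 1))) :
    Nonempty (KLinDR.HTρ T ((HomologicalComplex.single A (ComplexShape.up ℤ) (j : ℤ)).obj (K.X (j : ℤ))) (ρsingle ρ (j : ℤ)) i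
      ≃ₗ[R] KLinDR.HTρ T K ρ i) := by
  have hb := bijective_β T ρ (m := (j : ℤ)) (i := i)
    (subsingleton_ge T ρ _ fun q hq => by
      obtain ⟨p, rfl⟩ : ∃ p : ℕ, q = p := ⟨q.toNat, by omega⟩
      exact h p (by omega))
    (subsingleton_ge T ρ _ fun q hq => by
      obtain ⟨p, rfl⟩ : ∃ p : ℕ, q = p := ⟨q.toNat, by omega⟩
      exact hp p (by omega))
  have key : ∀ (d : ℕ) (m : ℤ), 0 ≤ m → m + d = j →
      Nonempty (KLinDR.HTρ T (ge K (j : ℤ)) (ρge ρ (j : ℤ)) i ≃ₗ[R] KLinDR.HTρ T (ge K m) (ρge ρ m) i) := by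
    intro d
    induction d with
    | zero =>
      intro m _ hm'
      obtain rfl : m = (j : ℤ) := by omega
      exact ⟨LinearEquiv.refl R _⟩
    | succ d ih =>
      intro m hm₀ hm'
      obtain ⟨e⟩ := ih (m + 1) (by omega) (by omega)
      obtain ⟨p, rfl⟩ : ∃ p : ℕ, m = p := ⟨m.toNat, by omega⟩
      exact ⟨e.trans (LinearEquiv.ofBijective (α T ρ (p : ℤ) i)
        (bijective_α T ρ (h p (by omega)) (hm p (by omega))))⟩
  obtain ⟨e⟩ := key j 0 le_rfl (by omega)
  exact ⟨((LinearEquiv.ofBijective _ hb).symm.trans e).trans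
    (LinearEquiv.ofBijective _ (bijective_toSelf T ρ hK i))⟩

end Groth.Agent.HdRVan.ProjStep

end
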